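import Cfsg.Agent.Lib.Recog.SporBound.Sound
import Cfsg.Agent.Lib.Recog.SporBound.J2UEight.Tree0

set_option autoImplicit false
set_option maxRecDepth 20000

/-! Generated closure certificate: (pt)^8 = 1 forces p into C(z) (owner: lead). -/

namespace CfsgLib.Recog.SporBound.J2UEight
open CfsgLib.Recog.SporBound

noncomputable def factTree : Q (ℕ) := (.node ft8 ft17 ft25 ft33)
noncomputable def nodeTree : Q (ℕ) := ct0
noncomputable def stepTree : Q (List ℕ) := (.node st9 st19 st28 st37)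
noncomputable def finalTree : Q (List ℕ) := et0

/-- The certificate. -/
noncomputable def cert : Cert where
  n := 1
  nd := 1647
  nf := 3818
  kl := [0, 1, 2, 3, 4, 5, 6, 7]
  facts := factTree
  cn := nodeTree
  steps := stepTree
  finals := finalTree
  rels := [[0, 0], [1, 1], [2, 2], [3, 3], [4, 4], [5, 5], [6, 6], [7, 7], [1, 2, 1, 2, 1, 2], [0, 1, 2, 0, 1, 2, 0, 1, 2, 0, 1, 2, 0, 1, 2], [1, 0, 1, 2, 0, 2, 1, 0, 1, 2, 0, 2, 1, 0], [3, 0, 2, 1, 0, 1, 2, 0], [5, 4, 0, 4, 0, 4, 0, 4, 0], [6, 1, 2, 0, 2, 1, 0, 4, 0, 4, 0, 1, 2, 0, 2, 1], [1, 2, 4, 2, 1, 4], [3, 4, 3, 4], [5, 0, 5, 0], [5, 1, 5, 1], [5, 2, 5, 2], [5, 4, 5, 4], [5, 3, 5, 3], [1, 4, 1, 4, 1, 4, 1, 4, 5], [4, 0, 1, 2, 4, 0, 1, 2, 4, 0, 1, 2, 4, 0, 1, 2, 4, 0, 1, 2], [7, 1, 2, 7, 2, 1], [7, 4, 7, 4], [7, 5, 7, 5, 4], [7, 1, 0, 6, 1, 0, 7, 0, 1, 6, 0, 1], [7, 3, 7, 6], [7, 1, 4, 1, 7,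 1, 4, 1, 7, 1, 4, 1], [7, 0, 2, 7, 0, 2, 7, 0, 2, 7, 0, 2, 7, 0, 2, 7, 0, 2, 7, 0, 2, 7, 0, 2]]
  subs := [[0], [1], [2], [3], [4], [5], [6]]

/-- Chains of the traced words. -/
noncomputable def closers : List ℕ := [0xee9000000000200000]

end CfsgLib.Recog.SporBound.J2UEight
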